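import Mathlib
import Groth.Agent.SplitQuotLib.Ring
import Groth.Agent.RegKindDescLib.Ring
import Groth.Agent.CMSliceLib.Slice
import Groth.Agent.CILib.KoszulRegular

/-!
# Regular ideals descend from smooth algebras
-/

set_option autoImplicit false
set_option backward.isDefEq.respectTransparency false
set_option linter.style.haveILetI false

universe u

open TensorProduct Groth.Agent MvPolynomial

namespace Groth.Agent.SmoothImmDescLib

/-- An ideal of a formally unramified algebra, whose quotient comes from the base, is generated by the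
base modulo its square. -/
theorem mem_mul_sup {A B E : Type u} [CommRing A] [CommRing B] [CommRing E] [Algebra A B] [Algebra A E]
    [Algebra.FormallyUnramified A E] (β : B →+* E) (hβ : ∀ x, algebraMap A E x = β (algebraMap A B x)) (s : B)
    (hext : ∀ (T : Type u) [CommRing T] (f g : E →+* T), (∀ b, f (β b) = g (β b)) → f = g)
    (J : Ideal A) (IE : Ideal E) (a₁ : A) (hs : IsUnit (β s)) (ha₁ : β (algebraMap A B a₁) - β s ∈ IE)
    (πE : E →+* Localization.Away a₁ ⧸ J.map (algebraMap A (Localization.Away a₁)))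
    (hπE : ∀ x, πE (algebraMap A E x) = Ideal.Quotient.mk _ (algebraMap A (Localization.Away a₁) x))
    (hab : ∀ b, ∃ x, β b - β (algebraMap A B x) ∈ IE) (hIEker : IE ≤ RingHom.ker πE) :
    ∀ x ∈ IE, x ∈ IE * IE ⊔ J.map (algebraMap A E) := by
  set K : Ideal E := IE * IE ⊔ J.map (algebraMap A E) with hK
  let Ib : Ideal (E ⧸ K) := IE.map (Ideal.Quotient.mk K)
  have hIb : IsNilpotent Ib := ⟨2, by
    rw [pow_two, Ideal.zero_eq_bot, ← Ideal.map_mul, Ideal.map_eq_bot_iff_le_ker, Ideal.mk_ker]
    exact le_sup_left⟩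
  have hub : IsUnit (algebraMap A (E ⧸ K) a₁) := by
    have h3 : IsNilpotent (Ideal.Quotient.mk K (β (algebraMap A B a₁) - β s)) := ⟨2, by
      rw [← map_pow, Ideal.Quotient.eq_zero_iff_mem, pow_two]
      exact Ideal.mem_sup_left (Ideal.mul_mem_mul ha₁ ha₁)⟩
    have h4 := h3.isUnit_add_left_of_commute (hs.map (Ideal.Quotient.mk K)) (Commute.all _ _)
    rw [map_sub, add_sub_cancel, ← hβ] at h4
    exact h4
  let ν : Localization.Away a₁ ⧸ J.map (algebraMap A (Localization.Away a₁)) →+* E ⧸ K :=
    Ideal.Quotient.lift _ (IsLocalization.Away.lift a₁ hub) (fun x hx => by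
      have h : J.map (algebraMap A (Localization.Away a₁)) ≤ RingHom.ker (IsLocalization.Away.lift a₁ hub) := by
        rw [Ideal.map_le_iff_le_comap]
        intro y hy
        show IsLocalization.Away.lift a₁ hub (algebraMap A (Localization.Away a₁) y) = 0
        rw [IsLocalization.Away.lift_eq]
        exact Ideal.Quotient.eq_zero_iff_mem.2 (Ideal.mem_sup_right (Ideal.mem_map_of_mem _ hy))
      exact h hx)
  have hν : ∀ x, ν (Ideal.Quotient.mk _ (algebraMap A (Localization.Away a₁) x)) = algebraMap A (E ⧸ K) x :=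
    fun x => IsLocalization.Away.lift_eq a₁ hub x
  let ψ₂ : E →ₐ[A] E ⧸ K :=
    { toRingHom := ν.comp πE
      commutes' := fun x => by
        show ν (πE (algebraMap A E x)) = _
        rw [hπE, hν] }
  have hagree : ∀ x, Ideal.Quotient.mk Ib (Ideal.Quotient.mkₐ A K x) = Ideal.Quotient.mk Ib (ψ₂ x) := by
    refine RingHom.congr_fun (hext _ ((Ideal.Quotient.mk Ib).comp (Ideal.Quotient.mkₐ A K).toRingHom)
      ((Ideal.Quotient.mk Ib).comp ψ₂.toRingHom) fun b => ?_)
    obtain ⟨x, hx⟩ := hab b
    show Ideal.Quotient.mk Ib (Ideal.Quotient.mk K (β b)) = Ideal.Quotient.mk Ib (ν (πE (β b)))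
    have h2 : πE (β b) = πE (algebraMap A E x) := by
      rw [← sub_eq_zero, ← map_sub, hβ]
      exact hIEker hx
    rw [h2, hπE, hν, show algebraMap A (E ⧸ K) x = Ideal.Quotient.mk K (algebraMap A E x) from rfl,
      Ideal.Quotient.eq, ← map_sub, hβ]
    exact Ideal.mem_map_of_mem _ hx
  have heq := Algebra.FormallyUnramified.ext Ib hIb hagree
  intro x hx
  rw [← Ideal.Quotient.eq_zero_iff_mem]
  refine (AlgHom.congr_fun heq x).trans ?_
  show ν (πE x) = 0
  rw [show πE x = 0 from hIEker hx, map_zero]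

/-- A regular ideal in a smooth algebra with a surjection from the base comes from a regular ideal of
the base. -/
theorem exists_gen {A B C : Type u} [CommRing A] [CommRing B] [CommRing C] [Algebra A B] (k : RegImm.Kind)
    (hk : k ≠ RegImm.Kind.regular) {n : ℕ} (φ₀ : MvPolynomial (Fin n) A →ₐ[A] B) (hφ₀ : φ₀.toRingHom.Etale)
    (π : B →+* C) (hσ : Function.Surjective (π.comp (algebraMap A B)))
    (hs : List B) (hhs : k.Seq B hs) (hker : RingHom.ker π = Ideal.ofList hs)
    (Q : Ideal B) [Q.IsPrime] (hQ : RingHom.ker π ≤ Q) :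
    ∃ a : A, algebraMap A B a ∉ Q ∧
      RegKindDescLib.Gen k ((RingHom.ker (π.comp (algebraMap A B))).map (algebraMap A (Localization.Away a))) := by
  classical
  let σ := π.comp (algebraMap A B)
  let J := RingHom.ker σ
  -- coordinates vanishing on the closed subscheme
  choose c hc using fun m => hσ (π (φ₀ (MvPolynomial.X m)))
  let τ : MvPolynomial (Fin n) A ≃ₐ[A] MvPolynomial (Fin n) A :=
    AlgEquiv.ofAlgHom (MvPolynomial.aeval fun m => MvPolynomial.X m - MvPolynomial.C (c m))
      (MvPolynomial.aeval fun m => MvPolynomial.X m + MvPolynomial.C (c m))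
      (MvPolynomial.algHom_ext fun m => by simp) (MvPolynomial.algHom_ext fun m => by simp)
  let φ : MvPolynomial (Fin n) A →ₐ[A] B := φ₀.comp τ.toAlgHom
  have hτ : ∀ m, τ (MvPolynomial.X m) = MvPolynomial.X m - MvPolynomial.C (c m) := fun m => by simp [τ]
  have hπX : ∀ m, π (φ (MvPolynomial.X m)) = 0 := fun m => by
    show π (φ₀ (τ (MvPolynomial.X m))) = 0
    rw [hτ, map_sub, map_sub, sub_eq_zero, MvPolynomial.C_eq_algebraMap, φ₀.commutes]
    exact (hc m).symm
  let Pc := MvPolynomial (Fin n) A
  letI : Algebra (MvPolynomial (Fin n) A) B := φ.toRingHom.toAlgebra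
  haveI : IsScalarTower A (MvPolynomial (Fin n) A) B := .of_algebraMap_eq fun x => (φ.commutes x).symm
  haveI hEt : Algebra.Etale (MvPolynomial (Fin n) A) B := by
    have h1 : φ.toRingHom.Etale := RingHom.Etale.stableUnderComposition _ _
      (RingHom.Etale.of_bijective τ.bijective) hφ₀
    exact h1
  haveI : Algebra.Smooth (MvPolynomial (Fin n) A) B := inferInstance
  let X' : List (MvPolynomial (Fin n) A) := List.ofFn fun m => MvPolynomial.X m
  let fs : List B := X'.map (algebraMap (MvPolynomial (Fin n) A) B)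
  have hfs : LCI.IsKoszulRegularSeq B fs :=
    CILib.isKoszulRegularSeq_of_isWeaklyRegular _ ((CMSliceLib.isWeaklyRegular_X A n).of_flat (S := B))
  have hfle : ∀ x ∈ fs, x ∈ RingHom.ker π := fun x hx => by
    obtain ⟨y, hy, rfl⟩ := List.mem_map.1 hx
    obtain ⟨m, rfl⟩ := List.mem_ofFn.1 hy
    exact hπX m
  have hlen : fs.length = n := by simp [fs, X']
  have hget : ∀ i : Fin fs.length, fs.get i = φ (MvPolynomial.X (Fin.cast hlen i)) := fun i => by
    simp [fs, X', RingHom.algebraMap_toAlgebra]
    rfl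
  choose cc hcc using fun i : Fin fs.length => (Ideal.mem_span_range_iff_exists_fun (v := hs.get) (x := fs.get i)).1
    (by rw [RegKindDescLib.range_get, ← hker]; exact hfle _ (List.get_mem _ _))
  -- the dual derivations of the coordinates
  let bΩ := (KaehlerDifferential.mvPolynomialBasis A (Fin n)).baseChange B
  let L : Fin n → (Ω[B⁄A] →ₗ[B] B) := fun m =>
    (bΩ.coord m).comp (KaehlerDifferential.tensorKaehlerEquivOfFormallyEtale A (MvPolynomial (Fin n) A) B).symm.toLinearMap
  have hL : ∀ m m', L m (KaehlerDifferential.D A B (φ (MvPolynomial.X m'))) = if m' = m then 1 else 0 := fun m m' => by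
    have e : φ (MvPolynomial.X m') = algebraMap (MvPolynomial (Fin n) A) B (MvPolynomial.X m') := rfl
    rw [e]
    simp only [L, LinearMap.comp_apply, LinearEquiv.coe_coe,
      KaehlerDifferential.tensorKaehlerEquivOfFormallyEtale_symm_D_algebraMap]
    rw [← KaehlerDifferential.mvPolynomialBasis_apply, ← Module.Basis.baseChange_apply (S := B),
      Module.Basis.coord_apply, Module.Basis.repr_self, Finsupp.single_apply]
  obtain ⟨s, hsQ, g, hg⟩ := SplitQuotLib.exists_quot k hk Q hs fs hhs (fun _ => hfs) cc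
    (fun l i => L (Fin.cast hlen i) (KaehlerDifferential.D A B (hs.get l))) (fun i => (hcc i).symm) (fun i m => by
      refine hQ ?_
      have h1 := congrArg (fun x => L (Fin.cast hlen m) (KaehlerDifferential.D A B x)) (hcc i)
      simp only [map_sum, Derivation.leibniz, map_add, map_smul, smul_eq_mul, Finset.sum_add_distrib] at h1
      rw [hget, hL] at h1
      have h2 : ∑ l, hs.get l * L (Fin.cast hlen m) (KaehlerDifferential.D A B (cc i l)) ∈ RingHom.ker π :=
        Ideal.sum_mem _ fun l _ => Ideal.mul_mem_right _ _ (by rw [hker]; exact Ideal.subset_span (List.get_mem _ _))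
      rw [show (if i = m then (1 : B) else 0) = if Fin.cast hlen i = Fin.cast hlen m then 1 else 0 from
        if_congr (by simp [Fin.ext_iff]) rfl rfl, ← h1]
      convert neg_mem h2 using 1
      ring)
  -- the quotient by the coordinates near `Q`
  let I : Ideal (MvPolynomial (Fin n) A) := Ideal.ofList X'
  let D := Localization.Away s
  haveI : Algebra.Etale (MvPolynomial (Fin n) A) D := by
    haveI : Algebra.Etale B D := Algebra.Etale.of_isLocalizationAway s
    exact Algebra.Etale.comp (MvPolynomial (Fin n) A) B D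
  let E := D ⧸ I.map (algebraMap (MvPolynomial (Fin n) A) D)
  let ρ : B →+* D := algebraMap B D
  let q : D →+* E := Ideal.Quotient.mk _
  have hkq : RingHom.ker q = Ideal.ofList (fs.map ρ) := by
    rw [Ideal.mk_ker, Ideal.map_ofList, List.map_map]
    congr 1
  have hρflat : ρ.Flat := RingHom.flat_algebraMap_iff.2 (IsLocalization.flat D (Submonoid.powers s))
  obtain ⟨hseq, hmap⟩ := hg ρ q hρflat (IsLocalization.Away.algebraMap_isUnit s) Ideal.Quotient.mk_surjective hkq
  let G := (g.map ρ).map q
  let IE : Ideal E := Ideal.ofList G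
  -- `E` over `A`
  have hAE : algebraMap A E = q.comp (ρ.comp (algebraMap A B)) := rfl
  haveI : Algebra.FinitePresentation A E := by
    haveI : Algebra.FinitePresentation (MvPolynomial (Fin n) A) D := inferInstance
    haveI : Algebra.FinitePresentation A D := Algebra.FinitePresentation.trans A (MvPolynomial (Fin n) A) D
    refine Algebra.FinitePresentation.quotient (Ideal.FG.map ?_ _)
    exact ⟨X'.toFinset, by simp [I, Ideal.ofList]⟩
  haveI : Module.Flat A E := by
    have h1 : Module.Flat ((MvPolynomial (Fin n) A) ⧸ I) E :=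
      Module.Flat.of_linearEquiv (Algebra.TensorProduct.quotIdealMapEquivQuotTensor D I).toLinearEquiv
    rw [← RingHom.flat_algebraMap_iff]
    have hcomp : algebraMap A E =
        (algebraMap ((MvPolynomial (Fin n) A) ⧸ I) E).comp ((Ideal.Quotient.mk I).comp MvPolynomial.C) := by
      refine RingHom.ext fun x => ?_
      show q (algebraMap B D (algebraMap A B x)) = q (algebraMap (MvPolynomial (Fin n) A) D (MvPolynomial.C x))
      rw [IsScalarTower.algebraMap_apply (MvPolynomial (Fin n) A) B D, MvPolynomial.C_eq_algebraMap,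
        ← IsScalarTower.algebraMap_apply A (MvPolynomial (Fin n) A) B]
    rw [hcomp]
    exact (RingHom.Flat.of_bijective (CMSliceLib.bijective_mk_C I rfl)).comp (RingHom.flat_algebraMap_iff.2 h1)
  haveI : Algebra.FormallyUnramified A E := by
    haveI : Algebra.FormallyUnramified (MvPolynomial (Fin n) A) E :=
      Algebra.FormallyUnramified.of_surjective (IsScalarTower.toAlgHom (MvPolynomial (Fin n) A) D E)
        Ideal.Quotient.mk_surjective
    let f : MvPolynomial (Fin n) A →+* A := MvPolynomial.constantCoeff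
    have hsub : ∀ p : MvPolynomial (Fin n) A,
        algebraMap (MvPolynomial (Fin n) A) E p = algebraMap A E (f p) := by
      intro p
      induction p using MvPolynomial.induction_on with
      | C r =>
        rw [show f (MvPolynomial.C r) = r from MvPolynomial.constantCoeff_C _ r, MvPolynomial.C_eq_algebraMap,
          ← IsScalarTower.algebraMap_apply]
      | add p p' hp hp' => simp [map_add, hp, hp']
      | mul_X p m hp =>
        have h0 : algebraMap (MvPolynomial (Fin n) A) E (MvPolynomial.X m) = 0 :=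
          Ideal.Quotient.eq_zero_iff_mem.2 (Ideal.mem_map_of_mem _ (Ideal.subset_span (List.mem_ofFn.2 ⟨m, rfl⟩)))
        simp [map_mul, h0, f]
    letI : Algebra (MvPolynomial (Fin n) A) A := f.toAlgebra
    haveI : IsScalarTower (MvPolynomial (Fin n) A) A E := .of_algebraMap_eq hsub
    exact Algebra.FormallyUnramified.of_restrictScalars (MvPolynomial (Fin n) A) A E
  -- the ideal of the base generates near `Q`
  obtain ⟨a₁, ha₁⟩ := hσ (π s)
  let A₁ := Localization.Away a₁
  let J₁ : Ideal A₁ := J.map (algebraMap A A₁)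
  let c₁ : C →+* A₁ ⧸ J₁ := σ.liftOfSurjective hσ ⟨(Ideal.Quotient.mk J₁).comp (algebraMap A A₁), fun x hx =>
    Ideal.Quotient.eq_zero_iff_mem.2 (Ideal.mem_map_of_mem _ hx)⟩
  have hc₁ : ∀ x, c₁ (σ x) = Ideal.Quotient.mk J₁ (algebraMap A A₁ x) := fun x =>
    σ.liftOfSurjective_comp_apply hσ _ x
  have hu₁ : IsUnit (c₁ (π s)) := by
    rw [← ha₁, hc₁]
    exact (IsLocalization.Away.algebraMap_isUnit a₁).map _
  let πD : D →+* A₁ ⧸ J₁ := IsLocalization.Away.lift s (g := c₁.comp π) hu₁
  have hπD : ∀ b, πD (ρ b) = c₁ (π b) := fun b => IsLocalization.Away.lift_eq s hu₁ b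
  let πE : E →+* A₁ ⧸ J₁ := Ideal.Quotient.lift _ πD (fun x hx => by
    have h : I.map (algebraMap (MvPolynomial (Fin n) A) D) ≤ RingHom.ker πD := by
      rw [← Ideal.mk_ker (I := I.map (algebraMap (MvPolynomial (Fin n) A) D))]
      rw [hkq, ← Ideal.map_ofList, Ideal.map_le_iff_le_comap]
      exact Ideal.span_le.2 fun y hy => by
        show πD (ρ y) = 0
        rw [hπD, hfle y hy, map_zero]
    exact h hx)
  have hπE : ∀ b, πE (q (ρ b)) = c₁ (π b) := fun b => hπD b
  have hIE : IE = (RingHom.ker π).map (q.comp ρ) := by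
    refine Eq.trans ?_ (congrArg (Ideal.map (q.comp ρ)) hker).symm
    refine Eq.trans ?_ (Ideal.map_map ρ q)
    rw [Ideal.map_ofList ρ hs]
    exact hmap.symm
  have hIEker : IE ≤ RingHom.ker πE := by
    rw [hIE, Ideal.map_le_iff_le_comap]
    intro b hb
    show πE (q (ρ b)) = 0
    rw [hπE, show π b = 0 from hb, map_zero]
  let K : Ideal E := IE * IE ⊔ J.map (algebraMap A E)
  have hKle : ∀ x ∈ IE, x ∈ K := by
    have hext : ∀ (T : Type u) [CommRing T] (f g : E →+* T),
        (∀ b, f ((q.comp ρ) b) = g ((q.comp ρ) b)) → f = g := fun T _ f g h =>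
      Ideal.Quotient.ringHom_ext (IsLocalization.ringHom_ext (Submonoid.powers s) (RingHom.ext h))
    refine mem_mul_sup (q.comp ρ) (fun x => RingHom.congr_fun hAE x) s hext J IE a₁
      ((IsLocalization.Away.algebraMap_isUnit s).map q) ?_ πE (fun x => ?_) (fun b => ?_) hIEker
    · rw [hIE, ← map_sub]
      exact Ideal.mem_map_of_mem (q.comp ρ) (by rw [RingHom.mem_ker, map_sub, ← ha₁]; exact sub_self _)
    · exact (hπE _).trans (hc₁ x)
    · obtain ⟨x, hx⟩ := hσ (π b)
      refine ⟨x, ?_⟩
      rw [hIE, ← map_sub]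
      exact Ideal.mem_map_of_mem (q.comp ρ) (by rw [RingHom.mem_ker, map_sub, ← hx]; exact sub_self _)
  obtain ⟨t, ht1, ht⟩ : ∃ t : E, t - 1 ∈ IE ∧ ∀ x ∈ IE, t * x ∈ J.map (algebraMap A E) := by
    obtain ⟨t, ht, ht'⟩ := Submodule.exists_sub_one_mem_and_smul_eq_zero_of_fg_of_le_smul IE
      (Submodule.map (J.map (algebraMap A E)).mkQ IE) (Submodule.FG.map _ ⟨G.toFinset, by simp [IE, Ideal.ofList]⟩) (by
        rintro _ ⟨x, hx, rfl⟩
        obtain ⟨u, hu, v, hv, rfl⟩ := Submodule.mem_sup.1 (hKle x hx)
        rw [map_add, show (J.map (algebraMap A E)).mkQ v = 0 from (Submodule.Quotient.mk_eq_zero _).2 hv, add_zero]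
        have := Submodule.mem_map_of_mem (f := (J.map (algebraMap A E)).mkQ) (show u ∈ IE • IE from hu)
        rwa [Submodule.map_smul''] at this)
    exact ⟨t, ht, fun x hx => (Submodule.Quotient.mk_eq_zero _).1 (ht' _ ⟨x, hx, rfl⟩)⟩
  -- the point of `E` over `Q`
  let κ := Q.ResidueField
  have hus : IsUnit (algebraMap B κ s) := by
    rw [isUnit_iff_ne_zero, ne_eq, Ideal.algebraMap_residueField_eq_zero]
    exact hsQ
  let χD : D →+* κ := IsLocalization.Away.lift s hus
  let χ : E →+* κ := Ideal.Quotient.lift _ χD (fun x hx => by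
    have h : I.map (algebraMap (MvPolynomial (Fin n) A) D) ≤ RingHom.ker χD := by
      rw [← Ideal.mk_ker (I := I.map (algebraMap (MvPolynomial (Fin n) A) D))]
      rw [hkq, ← Ideal.map_ofList, Ideal.map_le_iff_le_comap]
      exact Ideal.span_le.2 fun y hy => by
        show χD (ρ y) = 0
        rw [IsLocalization.Away.lift_eq, Ideal.algebraMap_residueField_eq_zero]
        exact hQ (hfle y hy)
    exact h hx)
  let qE : Ideal E := RingHom.ker χ
  haveI : qE.IsPrime := RingHom.ker_isPrime χ
  have hIEq : IE ≤ qE := by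
    rw [hIE, Ideal.map_le_iff_le_comap]
    intro b hb
    show χD (ρ b) = 0
    rw [IsLocalization.Away.lift_eq, Ideal.algebraMap_residueField_eq_zero]
    exact hQ hb
  have htq : t ∉ qE := fun h => (inferInstance : qE.IsPrime).ne_top
    ((Ideal.eq_top_iff_one _).2 (by simpa using sub_mem h (hIEq ht1)))
  haveI : Algebra.HasGoingDown A E := Algebra.HasGoingDown.of_flat
  have hopen := PrimeSpectrum.isOpenMap_comap_of_hasGoingDown_of_finitePresentation (R := A) (S := E) _
    (PrimeSpectrum.basicOpen t).2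
  obtain ⟨_, ⟨_, ⟨a, rfl⟩, rfl⟩, haP, haW⟩ := PrimeSpectrum.isBasis_basic_opens.exists_subset_of_mem_open
    (show PrimeSpectrum.comap (algebraMap A E) (⟨qE, inferInstance⟩ : PrimeSpectrum E) ∈
      PrimeSpectrum.comap (algebraMap A E) '' (PrimeSpectrum.basicOpen t : Set (PrimeSpectrum E)) from
      ⟨⟨qE, inferInstance⟩, htq, rfl⟩) hopen
  refine ⟨a, fun h => haP ?_, ?_⟩
  · show χD (ρ (algebraMap A B a)) = 0
    rw [IsLocalization.Away.lift_eq, Ideal.algebraMap_residueField_eq_zero]
    exact h
  let Aa := Localization.Away a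
  let Et := Localization.Away (t * algebraMap A E a)
  let ψ : Aa →+* Et := IsLocalization.Away.lift (S := Aa) a (g := algebraMap A Et) (by
    rw [IsScalarTower.algebraMap_apply A E Et]
    exact isUnit_of_mul_isUnit_right (show IsUnit (algebraMap E Et t * algebraMap E Et (algebraMap A E a)) by
      rw [← map_mul]; exact IsLocalization.Away.algebraMap_isUnit _))
  letI : Algebra Aa Et := ψ.toAlgebra
  haveI : IsScalarTower A Aa Et := .of_algebraMap_eq fun x => (IsLocalization.Away.lift_eq a _ x).symm
  haveI : Module.Flat E Et := IsLocalization.flat Et (Submonoid.powers (t * algebraMap A E a))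
  haveI : Module.Flat A Et := Module.Flat.trans A E Et
  haveI : Module.Flat Aa Et := (Module.flat_iff_of_isLocalization Aa (Submonoid.powers a) Et).2 inferInstance
  haveI : Module.FaithfullyFlat Aa Et := Module.FaithfullyFlat.of_comap_surjective fun p => by
    obtain ⟨⟨q', hq'⟩, hq't, hq'p⟩ := haW (show PrimeSpectrum.comap (algebraMap A Aa) p ∈ PrimeSpectrum.basicOpen a from
      fun h => p.2.ne_top (Ideal.eq_top_of_isUnit_mem _ h (IsLocalization.Away.algebraMap_isUnit a)))
    have hnot : t * algebraMap A E a ∉ q' := fun h => (hq'.mem_or_mem h).elim hq't (fun h' => by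
      have h'' : a ∈ (PrimeSpectrum.comap (algebraMap A E) ⟨q', hq'⟩).asIdeal := h'
      rw [hq'p] at h''
      exact p.2.ne_top (Ideal.eq_top_of_isUnit_mem _ h'' (IsLocalization.Away.algebraMap_isUnit a)))
    obtain ⟨w, hw⟩ := (PrimeSpectrum.localization_away_comap_range Et (t * algebraMap A E a)).ge
      (show (⟨q', hq'⟩ : PrimeSpectrum E) ∈ PrimeSpectrum.basicOpen (t * algebraMap A E a) from hnot)
    refine ⟨w, PrimeSpectrum.localization_comap_injective Aa (Submonoid.powers a) ?_⟩
    rw [← hq'p, ← hw, ← PrimeSpectrum.comap_comp_apply, ← PrimeSpectrum.comap_comp_apply,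
      ← IsScalarTower.algebraMap_eq, ← IsScalarTower.algebraMap_eq]
  refine RegKindDescLib.gen_descent (B := Et) k hk ?_
  have hJE : (J.map (algebraMap A Aa)).map (algebraMap Aa Et) = Ideal.ofList (G.map (algebraMap E Et)) := by
    rw [Ideal.map_map, ← IsScalarTower.algebraMap_eq, IsScalarTower.algebraMap_eq A E Et, ← Ideal.map_map,
      ← Ideal.map_ofList]
    refine le_antisymm (Ideal.map_mono ?_) (Ideal.map_le_iff_le_comap.2 fun x hx => ?_)
    · rw [show Ideal.ofList G = IE from rfl, hIE, Ideal.map_le_iff_le_comap]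
      exact fun x hx => Ideal.mem_map_of_mem (q.comp ρ) hx
    · have h1 := Ideal.mem_map_of_mem (algebraMap E Et) (ht x hx)
      rw [map_mul] at h1
      exact (Ideal.unit_mul_mem_iff_mem _ (isUnit_of_mul_isUnit_left (show IsUnit (algebraMap E Et t *
        algebraMap E Et (algebraMap A E a)) by rw [← map_mul]; exact IsLocalization.Away.algebraMap_isUnit _))).1 h1
  intro P hPp _
  refine ⟨1, fun h => hPp.ne_top ((Ideal.eq_top_iff_one _).2 h),
    (G.map (algebraMap E Et)).map (algebraMap Et (Localization.Away (1 : Et))), ?_, ?_⟩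
  · refine RelDivLib.seq_flat _ ?_ k hk (RelDivLib.seq_flat _ (RingHom.flat_algebraMap_iff.2 inferInstance) k hk hseq)
    exact RingHom.flat_algebraMap_iff.2 (IsLocalization.flat _ (Submonoid.powers (1 : Et)))
  · exact (congrArg (Ideal.map _) hJE).trans (Ideal.map_ofList _ _)

end Groth.Agent.SmoothImmDescLib
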