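import Mathlib
import Groth.Agent.SmoothImmDescLib.Ring
import Groth.Agent.RegKindDescLib.Scheme
import Groth.Agent.SplitQuotLib.Scheme

/-!
# Regular immersions descend along smooth morphisms
-/

set_option autoImplicit false
set_option backward.isDefEq.respectTransparency false
set_option linter.style.haveILetI false

universe u

open CategoryTheory CategoryTheory.Limits AlgebraicGeometry TopologicalSpace Groth.Agent

namespace Groth.Agent.SmoothImmDescLib

/-- Étale coordinates restrict to localisations. -/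
theorem exists_etale_away {A B A' B' : Type u} [CommRing A] [CommRing B] [CommRing A'] [CommRing B']
    [Algebra A A'] [Algebra B B'] [Algebra A' B'] (φ : A →+* B) {n : ℕ} (g : MvPolynomial (Fin n) A →+* B)
    (hgC : g.comp MvPolynomial.C = φ) (hg : g.Etale)
    (c : A) [IsLocalization.Away c A'] (t : B) [IsLocalization.Away t B']
    (hcomm : (algebraMap A' B').comp (algebraMap A A') = (algebraMap B B').comp φ) :
    ∃ g' : MvPolynomial (Fin n) A' →ₐ[A'] B', g'.toRingHom.Etale := by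
  let g' : MvPolynomial (Fin n) A' →ₐ[A'] B' :=
    MvPolynomial.aeval fun m => algebraMap B B' (g (MvPolynomial.X m))
  let m : MvPolynomial (Fin n) A →+* MvPolynomial (Fin n) A' := MvPolynomial.map (algebraMap A A')
  have hsq : g'.toRingHom.comp m = (algebraMap B B').comp g := by
    refine MvPolynomial.ringHom_ext (fun r => ?_) (fun i => ?_)
    · show g' (MvPolynomial.map (algebraMap A A') (MvPolynomial.C r)) = algebraMap B B' (g (MvPolynomial.C r))
      rw [MvPolynomial.map_C, MvPolynomial.aeval_C, show g (MvPolynomial.C r) = φ r from RingHom.congr_fun hgC r]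
      exact RingHom.congr_fun hcomm r
    · show g' (MvPolynomial.map (algebraMap A A') (MvPolynomial.X i)) = algebraMap B B' (g (MvPolynomial.X i))
      rw [MvPolynomial.map_X, MvPolynomial.aeval_X]
  refine ⟨g', ?_⟩
  letI := g.toAlgebra
  haveI : Algebra.Etale (MvPolynomial (Fin n) A) B := hg
  haveI : Algebra.Etale B B' := Algebra.Etale.of_isLocalizationAway t
  letI : Algebra (MvPolynomial (Fin n) A) B' := ((algebraMap B B').comp g).toAlgebra
  haveI : IsScalarTower (MvPolynomial (Fin n) A) B B' := .of_algebraMap_eq fun _ => rfl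
  haveI : Algebra.Etale (MvPolynomial (Fin n) A) B' := Algebra.Etale.comp _ B B'
  letI : Algebra (MvPolynomial (Fin n) A) (MvPolynomial (Fin n) A') := m.toAlgebra
  haveI : IsLocalization.Away (MvPolynomial.C c) (MvPolynomial (Fin n) A') := by
    have h := MvPolynomial.isLocalization (σ := Fin n) (Submonoid.powers c) A'
    rw [Submonoid.map_powers] at h
    exact h
  haveI : Algebra.Etale (MvPolynomial (Fin n) A) (MvPolynomial (Fin n) A') :=
    Algebra.Etale.of_isLocalizationAway (MvPolynomial.C c)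
  letI := g'.toRingHom.toAlgebra
  haveI : IsScalarTower (MvPolynomial (Fin n) A) (MvPolynomial (Fin n) A') B' :=
    .of_algebraMap_eq fun x => (RingHom.congr_fun hsq x).symm
  exact Algebra.Etale.of_restrictScalars (MvPolynomial (Fin n) A) (MvPolynomial (Fin n) A') B'

variable {Y X S : Scheme.{u}}

/-- A regular immersion into a smooth scheme over the base gives a regular immersion into the base. -/
theorem isRegularImmersionAt_base (p : X ⟶ S) [Smooth p] (i : Y ⟶ X) (j : Y ⟶ S) [IsImmersion i] [IsImmersion j]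
    (h : i ≫ p = j) (k : RegImm.Kind) (hk : k ≠ RegImm.Kind.regular) (y : Y)
    (hy : RegImm.IsRegularImmersionAt k i y) : RegImm.IsRegularImmersionAt k j y := by
  subst h
  obtain ⟨⟨U₀, hU₀⟩, hy₀, hc₀, hs₀, hhs₀, hker₀⟩ := hy
  obtain ⟨U, hU, V, hV, hyV, e, hstd⟩ := Smooth.exists_isStandardSmooth p (i y)
  obtain ⟨n, g, hgC, hg⟩ := hstd.exists_etale_mvPolynomial
  -- a basic open of the base whose preimage in `Y` lies in the chart
  obtain ⟨O, hO, hOV⟩ := (i ≫ p).isEmbedding.isInducing.isOpen_iff.1 (i ⁻¹ᵁ V).2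
  have hyO : (i ≫ p) y ∈ O := by
    rw [← Set.mem_preimage, hOV]
    exact hyV
  obtain ⟨c, hcle, hyc⟩ := hU.exists_basicOpen_le (V := ⟨O, hO⟩ ⊓ (i ≫ p).coborderRange)
    ⟨(i ≫ p) y, hyO, subset_coborder ⟨y, rfl⟩⟩ (e hyV)
  have hD₁ := hU.basicOpen c
  let c' : Γ(X, V) := p.appLE U V e c
  have hV₁ : X.basicOpen c' = V ⊓ p ⁻¹ᵁ S.basicOpen c := by
    rw [← Scheme.basicOpen_appLE]
  have hpre₁ : i ⁻¹ᵁ X.basicOpen c' = (i ≫ p) ⁻¹ᵁ S.basicOpen c := by
    rw [hV₁]
    refine le_antisymm (fun z hz => hz.2) fun z hz => ⟨?_, hz⟩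
    have : z ∈ (i ≫ p) ⁻¹' O := (hcle hz).1
    rw [hOV] at this
    exact this
  have hyV₁ : i y ∈ X.basicOpen c' := by
    rw [hV₁]
    exact ⟨hyV, hyc⟩
  -- shrink into the chart of `i`
  obtain ⟨t₀, ht₀le, hyt₀⟩ := (hV.basicOpen c').exists_basicOpen_le (V := U₀ ⊓ i.coborderRange)
    ⟨i y, hy₀, subset_coborder ⟨y, rfl⟩⟩ hyV₁
  obtain ⟨haff₁, hsurj₁⟩ := RegIdealLib.affine_and_surjective (i ≫ p) hD₁
    (RegKindDescLib.isClosedImmersion_restrict (i ≫ p) _ (hcle.trans inf_le_right))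
  obtain ⟨c₂, hc₂⟩ := hsurj₁ (i.appLE (X.basicOpen c') ((i ≫ p) ⁻¹ᵁ S.basicOpen c) hpre₁.ge t₀)
  have hpre : i ⁻¹ᵁ X.basicOpen t₀ = (i ≫ p) ⁻¹ᵁ S.basicOpen c₂ := by
    refine (Scheme.preimage_basicOpen i t₀).trans ?_
    refine Eq.trans ?_ ((i ≫ p).preimage_basicOpen c₂).symm
    rw [hc₂]
    simp only [Scheme.Hom.appLE, CommRingCat.hom_comp, RingHom.comp_apply]
    rw [Scheme.basicOpen_res, eq_comm]
    exact inf_eq_right.2 ((Y.basicOpen_le _).trans hpre₁.le)
  have hD : IsAffineOpen (S.basicOpen c₂) := hD₁.basicOpen c₂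
  have hDle : S.basicOpen c₂ ≤ S.basicOpen c := S.basicOpen_le c₂
  -- the chart upstairs
  let u₀ : Γ(X, X.basicOpen c') := p.appLE (S.basicOpen c) (X.basicOpen c') (hV₁.le.trans inf_le_right) c₂
  obtain ⟨tt, htt⟩ := hV.basicOpen_basicOpen_is_basicOpen c' (t₀ * u₀)
  have hW' : X.basicOpen tt = X.basicOpen t₀ ⊓ p ⁻¹ᵁ S.basicOpen c₂ := by
    rw [htt, Scheme.basicOpen_mul, show X.basicOpen u₀ = X.basicOpen c' ⊓ p ⁻¹ᵁ S.basicOpen c₂ from
      Scheme.basicOpen_appLE .., ← inf_assoc, inf_eq_left.2 (X.basicOpen_le t₀)]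
  let W := X.basicOpen tt
  let D := S.basicOpen c₂
  have hWD : W ≤ p ⁻¹ᵁ D := hW'.le.trans inf_le_right
  have hWU₀ : W ≤ U₀ := (hW'.le.trans inf_le_left).trans (ht₀le.trans inf_le_left)
  have hWi : W ≤ i.coborderRange := (hW'.le.trans inf_le_left).trans (ht₀le.trans inf_le_right)
  have hWaff : IsAffineOpen W := hV.basicOpen tt
  have hpreW : i ⁻¹ᵁ W = (i ≫ p) ⁻¹ᵁ D := by
    show i ⁻¹ᵁ X.basicOpen tt = (i ≫ p) ⁻¹ᵁ S.basicOpen c₂
    rw [hW']
    exact le_antisymm (fun z hz => hz.2) fun z hz => ⟨hpre.ge hz, hz⟩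
  have hyW : i y ∈ W := by
    have hyD : y ∈ (i ≫ p) ⁻¹ᵁ D := hpre.le hyt₀
    exact hpreW.ge hyD
  obtain ⟨cc, hcc⟩ := hU.basicOpen_basicOpen_is_basicOpen c c₂
  letI : Algebra Γ(S, U) Γ(S, D) := (S.presheaf.map (homOfLE (hDle.trans (S.basicOpen_le c))).op).hom.toAlgebra
  haveI : IsLocalization.Away cc Γ(S, D) := hU.isLocalization_of_eq_basicOpen cc _ hcc.symm
  letI : Algebra Γ(X, V) Γ(X, W) := (X.presheaf.map (homOfLE (X.basicOpen_le tt)).op).hom.toAlgebra
  haveI : IsLocalization.Away tt Γ(X, W) := hV.isLocalization_of_eq_basicOpen tt _ rfl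
  letI : Algebra Γ(S, D) Γ(X, W) := (p.appLE D W hWD).hom.toAlgebra
  obtain ⟨g', hg'⟩ := exists_etale_away (A' := Γ(S, D)) (B' := Γ(X, W)) (p.appLE U V e).hom g hgC hg cc tt (by
    simp only [RingHom.algebraMap_toAlgebra, ← CommRingCat.hom_comp, Scheme.Hom.appLE_map]
    exact congrArg CommRingCat.Hom.hom (p.map_appLE hWD _))
  let π : Γ(X, W) →+* Γ(Y, (i ≫ p) ⁻¹ᵁ D) := (i.appLE W _ hpreW.ge).hom
  have hcompσ : π.comp (algebraMap Γ(S, D) Γ(X, W)) = ((i ≫ p).app D).hom := by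
    simp only [π, RingHom.algebraMap_toAlgebra, ← CommRingCat.hom_comp, Scheme.Hom.appLE_comp_appLE,
      Scheme.Hom.app_eq_appLE]
  have hDj : D ≤ (i ≫ p).coborderRange := hDle.trans (hcle.trans inf_le_right)
  have hσ : Function.Surjective (π.comp (algebraMap Γ(S, D) Γ(X, W))) := by
    rw [hcompσ]
    exact (RegIdealLib.affine_and_surjective (i ≫ p) hD (RegKindDescLib.isClosedImmersion_restrict _ _ hDj)).2
  let ρ₀ := ((𝟙 X : X ⟶ X).appLE U₀ W hWU₀).hom
  have hhs : k.Seq _ (hs₀.map ρ₀) :=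
    RelDivLib.seq_flat ρ₀ (SplitQuotLib.flat_res hU₀ hWaff hWU₀) k hk hhs₀
  have hkerπ : RingHom.ker π = Ideal.ofList (hs₀.map ρ₀) := by
    rw [← Ideal.map_ofList, ← hker₀, ← SplitQuotLib.ker_res i hU₀ hc₀ hWaff hWU₀]
    have hinj : Function.Injective (Y.presheaf.map (homOfLE hpreW.ge).op).hom :=
      (ConcreteCategory.bijective_of_isIso (Y.presheaf.map (eqToHom hpreW.symm).op)).1
    have hπ : π = (Y.presheaf.map (homOfLE hpreW.ge).op).hom.comp (i.app W).hom := by
      simp only [π, Scheme.Hom.appLE, CommRingCat.hom_comp]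
    rw [hπ]
    exact RingHom.ker_comp_of_injective _ hinj
  let Q : Ideal Γ(X, W) := (hWaff.primeIdealOf ⟨i y, hyW⟩).asIdeal
  have hQ : RingHom.ker π ≤ Q := by
    intro q hq
    by_contra hna
    have h1 := (RegKindDescLib.mem_basicOpen_iff hWaff ⟨i y, hyW⟩ q).1 hna
    have h2 : y ∈ i ⁻¹ᵁ X.basicOpen q := h1
    rw [i.preimage_basicOpen] at h2
    have h3 : y ∈ (i ≫ p) ⁻¹ᵁ D := hpreW.le (Y.basicOpen_le _ h2)
    have h4 : y ∈ Y.basicOpen (π q) := by
      simp only [π, Scheme.Hom.appLE, CommRingCat.hom_comp, RingHom.comp_apply]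
      rw [Scheme.basicOpen_res]
      exact ⟨h3, h2⟩
    rw [RingHom.mem_ker.1 hq, Scheme.basicOpen_zero] at h4
    exact h4
  obtain ⟨a, haQ, hgen⟩ := exists_gen k hk g' hg' π hσ (hs₀.map ρ₀) hhs hkerπ Q hQ
  rw [hcompσ] at hgen
  have hya : (i ≫ p) y ∈ S.basicOpen a := by
    have h1 := (RegKindDescLib.mem_basicOpen_iff hWaff ⟨i y, hyW⟩ _).1 haQ
    rw [RingHom.algebraMap_toAlgebra, Scheme.basicOpen_appLE] at h1
    exact h1.2
  -- over the basic open of `a`
  have hDa : IsAffineOpen (S.basicOpen a) := hD.basicOpen a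
  refine RegKindDescLib.isRegularImmersionAt_of_gen k hk (i ≫ p) hDa ((S.basicOpen_le a).trans hDj) ?_ y hya
  rw [SplitQuotLib.ker_res (i ≫ p) hD (RegKindDescLib.isClosedImmersion_restrict _ _ hDj) hDa (S.basicOpen_le a)]
  letI : Algebra Γ(S, D) Γ(S, S.basicOpen a) :=
    ((𝟙 S : S ⟶ S).appLE D (S.basicOpen a) (S.basicOpen_le a)).hom.toAlgebra
  haveI : IsLocalization.Away a Γ(S, S.basicOpen a) := by
    have h1 := hD.isLocalization_basicOpen a
    convert h1 using 2
  let ε : Localization.Away a ≃ₐ[Γ(S, D)] Γ(S, S.basicOpen a) :=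
    IsLocalization.algEquiv (Submonoid.powers a) _ _
  letI : Algebra Γ(S, S.basicOpen a) (Localization.Away a) := ε.symm.toRingEquiv.toRingHom.toAlgebra
  haveI : Module.Flat Γ(S, S.basicOpen a) (Localization.Away a) :=
    RingHom.flat_algebraMap_iff.1 (RingHom.Flat.of_bijective ε.symm.bijective)
  haveI : Module.FaithfullyFlat Γ(S, S.basicOpen a) (Localization.Away a) :=
    RingHom.faithfullyFlat_algebraMap_iff.1 (RingHom.FaithfullyFlat.of_bijective ε.symm.bijective)
  refine RegKindDescLib.gen_descent (B := Localization.Away a) k hk ?_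
  rw [Ideal.map_map]
  convert hgen using 2
  exact RingHom.ext fun x => ε.symm.commutes x

end Groth.Agent.SmoothImmDescLib
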